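import Cfsg.Agent.Lib.DerangePPower.Basic
import Cfsg.Agent.Lib.Solvable.Criteria

/-!
# Primitive groups, not almost simple, with two classes of derangements
-/

set_option autoImplicit false

namespace Cfsg.Agent.TwoDerangeClass

open MulAction

variable {G Ω : Type*} [Group G] [MulAction G Ω]

/-- The hypothesis: among three derangements two are conjugate. -/
def TwoClasses (G Ω : Type*) [Group G] [MulAction G Ω] : Prop :=
  ∀ x y z : G, (∀ ω : Ω, x • ω ≠ ω) → (∀ ω : Ω, y • ω ≠ ω) → (∀ ω : Ω, z • ω ≠ ω) →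
    IsConj x y ∨ IsConj x z ∨ IsConj y z

theorem twoClasses_of_card [Finite G]
    (hκ : Nat.card {c : ConjClasses G // ∃ g : G, ConjClasses.mk g = c ∧ ∀ ω : Ω, g • ω ≠ ω} = 2) :
    TwoClasses G Ω := by
  intro x y z hx hy hz
  by_contra hcon
  simp only [not_or, ← ConjClasses.mk_eq_mk_iff_isConj] at hcon
  obtain ⟨a, b, -, huniv⟩ := Nat.card_eq_two_iff.1 hκ
  have hall : ∀ c, c = a ∨ c = b := fun c => by
    have : c ∈ ({a, b} : Set _) := huniv ▸ Set.mem_univ c
    simpa using this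
  have key : ∀ g : G, (∀ ω : Ω, g • ω ≠ ω) → ConjClasses.mk g = a.1 ∨ ConjClasses.mk g = b.1 :=
    fun g hg => (hall ⟨_, g, rfl, hg⟩).imp (congrArg Subtype.val) (congrArg Subtype.val)
  rcases key x hx with h1 | h1 <;> rcases key y hy with h2 | h2 <;> rcases key z hz with h3 | h3
  all_goals first
    | exact hcon.1 (h1.trans h2.symm)
    | exact hcon.2.1 (h1.trans h3.symm)
    | exact hcon.2.2 (h2.trans h3.symm)

theorem orderOf_eq_of_isConj {x y : G} (h : IsConj x y) : orderOf x = orderOf y := by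
  obtain ⟨c, rfl⟩ := isConj_iff.1 h
  exact ((MulAut.conj c).orderOf_eq x).symm

/-- A non-commutative subgroup minimal among those normalised by `N` has three prime divisors. -/
theorem three_prime_elements [Finite G] {S N : Subgroup G} (hSN : S ≤ N)
    (hSn : ∀ n ∈ N, ∀ k ∈ S, n * k * n⁻¹ ∈ S)
    (hmin : ∀ K : Subgroup G, K ≤ S → K ≠ ⊥ → (∀ n ∈ N, ∀ k ∈ K, n * k * n⁻¹ ∈ K) → K = S)
    (hnc : ¬ ∀ x ∈ S, ∀ y ∈ S, x * y = y * x) :
    ∃ x ∈ S, ∃ y ∈ S, ∃ z ∈ S, (orderOf x).Prime ∧ (orderOf y).Prime ∧ (orderOf z).Prime ∧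
      orderOf x ≠ orderOf y ∧ orderOf x ≠ orderOf z ∧ orderOf y ≠ orderOf z := by
  have : Nontrivial S := by
    by_contra h
    have := not_nontrivial_iff_subsingleton.1 h
    exact hnc fun x hx y hy => congrArg Subtype.val (Subsingleton.elim (⟨x, hx⟩ * ⟨y, hy⟩ : S) (⟨y, hy⟩ * ⟨x, hx⟩))
  rcases SolvCriteria.solvable_or_three_primes S with hs | ⟨p, q, r, ⟨hp, hq, hr⟩, ⟨hpq, hpr, hqr⟩, dp, dq, dr⟩
  · exfalso
    have hlt : commutator S < ⊤ := Group.IsSolvable.commutator_lt_top_of_nontrivial S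
    by_cases hb : ⁅S, S⁆ = ⊥
    · refine hnc fun x hx y hy => ?_
      have := hb.le (Subgroup.commutator_mem_commutator hx hy)
      rw [Subgroup.mem_bot, commutatorElement_def] at this
      calc x * y = x * y * x⁻¹ * y⁻¹ * (y * x) := by group
        _ = y * x := by rw [this, one_mul]
    · have hle : ⁅S, S⁆ ≤ S := (Subgroup.commutator_le).2 fun a ha b hb' => by
        rw [commutatorElement_def]; exact S.mul_mem (S.mul_mem (S.mul_mem ha hb') (S.inv_mem ha)) (S.inv_mem hb')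
      have heq := hmin _ hle hb fun n hn k hk => by
        have hmap : (⁅S, S⁆).map (MulAut.conj n).toMonoidHom ≤ ⁅S, S⁆ := by
          rw [Subgroup.map_commutator]
          have hm : S.map (MulAut.conj n).toMonoidHom ≤ S := by
            rintro - ⟨s, hs', rfl⟩; exact hSn n hn s hs'
          exact Subgroup.commutator_mono hm hm
        exact hmap ⟨k, hk, rfl⟩
      refine hlt.ne (Subgroup.map_injective S.subtype_injective ?_)
      rw [Subgroup.map_subtype_commutator, heq, ← MonoidHom.range_eq_map, Subgroup.range_subtype]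
  · have := Fact.mk hp
    have := Fact.mk hq
    have := Fact.mk hr
    obtain ⟨x, hx⟩ := exists_prime_orderOf_dvd_card' (G := S) p dp
    obtain ⟨y, hy⟩ := exists_prime_orderOf_dvd_card' (G := S) q dq
    obtain ⟨z, hz⟩ := exists_prime_orderOf_dvd_card' (G := S) r dr
    rw [← Subgroup.orderOf_coe] at hx hy hz
    exact ⟨x, x.2, y, y.2, z, z.2, hx ▸ hp, hy ▸ hq, hz ▸ hr, by rw [hx, hy]; exact hpq,
      by rw [hx, hz]; exact hpr, by rw [hy, hz]; exact hqr⟩

/-- A non-commutative semiregular subgroup gives three classes. -/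
theorem not_semiregular [Finite G] (h2 : TwoClasses G Ω) {S N : Subgroup G} (hSN : S ≤ N)
    (hSn : ∀ n ∈ N, ∀ k ∈ S, n * k * n⁻¹ ∈ S)
    (hmin : ∀ K : Subgroup G, K ≤ S → K ≠ ⊥ → (∀ n ∈ N, ∀ k ∈ K, n * k * n⁻¹ ∈ K) → K = S)
    (hnc : ¬ ∀ x ∈ S, ∀ y ∈ S, x * y = y * x)
    (hS : ∀ s ∈ S, ∀ ω : Ω, s • ω = ω → s = 1) : False := by
  obtain ⟨x, hx, y, hy, z, hz, px, py, pz, hxy, hxz, hyz⟩ := three_prime_elements hSN hSn hmin hnc
  have hd : ∀ s ∈ S, (orderOf s).Prime → ∀ ω : Ω, s • ω ≠ ω := fun s hs hp ω hω =>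
    hp.ne_one (by rw [hS s hs ω hω, orderOf_one])
  rcases h2 x y z (hd x hx px) (hd y hy py) (hd z hz pz) with h | h | h
  exacts [hxy (orderOf_eq_of_isConj h), hxz (orderOf_eq_of_isConj h), hyz (orderOf_eq_of_isConj h)]

/-- A non-commutative minimal normal subgroup is simple. -/
theorem no_proper_factor [Finite G] [FaithfulSMul G Ω] (h2 : TwoClasses G Ω)
    (N : Subgroup G) [hN : N.Normal]
    (hmin : ∀ K : Subgroup G, K.Normal → K ≤ N → K ≠ ⊥ → K = N)
    (hnc : ¬ ∀ a ∈ N, ∀ b ∈ N, a * b = b * a) [IsPretransitive N Ω]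
    (S : Subgroup G) (hS1 : S ≠ ⊥) (hSN : S ≤ N) (hSn : ∀ n ∈ N, ∀ k ∈ S, n * k * n⁻¹ ∈ S)
    (hSmin : ∀ K : Subgroup G, K ≤ S → K ≠ ⊥ → (∀ n ∈ N, ∀ k ∈ K, n * k * n⁻¹ ∈ K) → K = S) :
    S = N := by
  by_contra hne
  let K := N ⊓ Subgroup.centralizer (S : Set G)
  have hKn : ∀ n ∈ N, ∀ k ∈ K, n * k * n⁻¹ ∈ K := by
    rintro n hn k ⟨hk, hkc⟩
    refine ⟨N.mul_mem (N.mul_mem hn hk) (N.inv_mem hn), Subgroup.mem_centralizer_iff.2 fun s hs => ?_⟩
    have := Subgroup.mem_centralizer_iff.1 hkc (n⁻¹ * s * n)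
      (by simpa using hSn n⁻¹ (N.inv_mem hn) s hs)
    calc s * (n * k * n⁻¹) = n * ((n⁻¹ * s * n) * k) * n⁻¹ := by group
      _ = n * (k * (n⁻¹ * s * n)) * n⁻¹ := by rw [this]
      _ = n * k * n⁻¹ * s := by group
  -- the conjugates of `S`
  have hconj : ∀ g : G, S.map (MulAut.conj g).toMonoidHom = S ∨
      S ⊓ S.map (MulAut.conj g).toMonoidHom = ⊥ ∧ S.map (MulAut.conj g).toMonoidHom ≤ K := by
    intro g
    let S' := S.map (MulAut.conj g).toMonoidHom
    have hS'N : S' ≤ N := by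
      rintro - ⟨s, hs, rfl⟩; exact hN.conj_mem s (hSN hs) g
    have hS'n : ∀ n ∈ N, ∀ k ∈ S', n * k * n⁻¹ ∈ S' := by
      rintro n hn - ⟨s, hs, rfl⟩
      refine ⟨g⁻¹ * n * g * s * (g⁻¹ * n * g)⁻¹,
        hSn _ (by simpa using hN.conj_mem n hn g⁻¹) s hs, ?_⟩
      simp only [MulEquiv.coe_toMonoidHom, MulAut.conj_apply]; group
    by_cases hb : S ⊓ S' = ⊥
    · refine Or.inr ⟨hb, le_inf hS'N fun x hx => Subgroup.mem_centralizer_iff.2 fun s hs => ?_⟩
      exact CharSimple.commute_of_disjoint (fun b hb' a' ha => hSn b (hS'N hb') a' ha)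
        (fun a' ha b hb' => hS'n a' (hSN ha) b hb') hb s hs x hx
    · left
      have hle : S ≤ S' := inf_eq_left.1 (hSmin _ inf_le_left hb fun n hn k hk =>
        ⟨hSn n hn k hk.1, hS'n n hn k hk.2⟩)
      exact (Subgroup.eq_of_le_of_card_ge hle
        (le_of_eq (Nat.card_congr (S.equivMapOfInjective _ (MulAut.conj g).injective).toEquiv).symm)).symm
  let P : Subgroup G :=
    { carrier := {n | ∃ s ∈ S, ∃ k ∈ K, n = s * k}
      one_mem' := ⟨1, S.one_mem, 1, K.one_mem, by group⟩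
      mul_mem' := by
        rintro - - ⟨s, hs, k, hk, rfl⟩ ⟨s', hs', k', hk', rfl⟩
        refine ⟨s * s', S.mul_mem hs hs', k * k', K.mul_mem hk hk', ?_⟩
        rw [mul_assoc s k, ← mul_assoc k s', ← Subgroup.mem_centralizer_iff.1 hk.2 s' hs']
        group
      inv_mem' := by
        rintro - ⟨s, hs, k, hk, rfl⟩
        refine ⟨s⁻¹, S.inv_mem hs, k⁻¹, K.inv_mem hk, ?_⟩
        rw [mul_inv_rev, Subgroup.mem_centralizer_iff.1 (K.inv_mem hk).2 s⁻¹ (S.inv_mem hs)] }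
  have hNP : ∀ n ∈ N, ∃ s ∈ S, ∃ k ∈ K, n = s * k := by
    have hcl : Subgroup.normalClosure (S : Set G) = N := by
      refine hmin _ inferInstance (Subgroup.normalClosure_le_normal hSN) fun h => hS1 ?_
      exact le_bot_iff.1 fun x hx => by rw [← h]; exact Subgroup.subset_normalClosure hx
    have hle : Subgroup.normalClosure (S : Set G) ≤ P := by
      refine (Subgroup.closure_le _).2 fun x hx => ?_
      obtain ⟨s, hs, hc⟩ := Group.mem_conjugatesOfSet_iff.1 hx
      obtain ⟨g, rfl⟩ := isConj_iff.1 hc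
      have hmem : g * s * g⁻¹ ∈ S.map (MulAut.conj g).toMonoidHom := ⟨s, hs, rfl⟩
      rcases hconj g with h | ⟨-, h⟩
      · rw [h] at hmem
        exact ⟨_, hmem, 1, K.one_mem, by group⟩
      · exact ⟨1, S.one_mem, _, h hmem, by group⟩
    exact fun n hn => hle (hcl.ge hn)
  have hSnc : ¬ ∀ x ∈ S, ∀ y ∈ S, x * y = y * x := by
    intro hab
    refine hnc fun x hx y hy => ?_
    have hSZ : ∀ s ∈ S, ∀ n ∈ N, s * n = n * s := by
      intro s hs n hn
      obtain ⟨s', hs', k, hk, rfl⟩ := hNP n hn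
      rw [← mul_assoc, hab s hs s' hs', mul_assoc, Subgroup.mem_centralizer_iff.1 hk.2 s hs,
        mul_assoc]
    have hZ : N ⊓ Subgroup.centralizer (N : Set G) = N := by
      refine hmin _ inferInstance inf_le_left fun h => hS1 (le_bot_iff.1 fun s hs => ?_)
      exact h.le ⟨hSN hs, Subgroup.mem_centralizer_iff.2 fun n hn => (hSZ s hs n hn).symm⟩
    exact Subgroup.mem_centralizer_iff.1 (hZ.ge hy).2 x hx
  have hSK : ∀ s ∈ S, s ∈ K → s = 1 := by
    intro s hs hsK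
    by_contra hs1
    have h := hSmin (S ⊓ K) inf_le_left (fun h => hs1 (Subgroup.mem_bot.1 (h.le ⟨hs, hsK⟩)))
      fun n hn k hk => ⟨hSn n hn k hk.1, hKn n hn k hk.2⟩
    exact hSnc fun x hx y hy => Subgroup.mem_centralizer_iff.1 (h.ge hy).2.2 x hx
  by_cases hA : ∃ s ∈ S, ∀ k ∈ K, ∀ ω : Ω, (s * k) • ω ≠ ω
  · obtain ⟨g, hg⟩ : ∃ g : G, S.map (MulAut.conj g).toMonoidHom ≠ S := by
      by_contra hall
      push Not at hall
      refine hne (hmin S ⟨fun s hs g => ?_⟩ hSN hS1)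
      exact (hall g).le ⟨s, hs, rfl⟩
    obtain ⟨hdis, hS'K⟩ := (hconj g).resolve_left hg
    obtain ⟨s, hs, hfix⟩ := hA
    have hs1 : s ∉ K := fun h => by
      obtain ⟨ω⟩ : Nonempty Ω := by
        by_contra hΩ
        rw [not_nonempty_iff] at hΩ
        exact hS1 (le_bot_iff.1 fun z _ => eq_of_smul_eq_smul (α := Ω) fun ω => hΩ.elim ω)
      exact hfix 1 K.one_mem ω (by rw [mul_one, hSK s hs h, one_smul])
    obtain ⟨x, hx, y, hy, -, -, px, py, -, hxy, -, -⟩ := three_prime_elements hSN hSn hSmin hSnc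
    let t := g * x * g⁻¹
    let u := g * y * g⁻¹
    have ht : t ∈ S.map (MulAut.conj g).toMonoidHom := ⟨x, hx, rfl⟩
    have hu : u ∈ S.map (MulAut.conj g).toMonoidHom := ⟨y, hy, rfl⟩
    have hot : orderOf t = orderOf x := (orderOf_eq_of_isConj (isConj_iff.2 ⟨g, rfl⟩)).symm
    have hou : orderOf u = orderOf y := (orderOf_eq_of_isConj (isConj_iff.2 ⟨g, rfl⟩)).symm
    have hdec : ∀ a ∈ S, ∀ b ∈ K, ∀ a' ∈ S, ∀ b' ∈ K, a * b = a' * b' → a = a' ∧ b = b' := by
      intro a ha b hb a' ha' b' hb' h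
      have h1 : a'⁻¹ * a = b' * b⁻¹ := by rw [inv_mul_eq_iff_eq_mul, ← mul_assoc, ← h]; group
      have := hSK _ (S.mul_mem (S.inv_mem ha') ha) (h1 ▸ K.mul_mem hb' (K.inv_mem hb))
      rw [inv_mul_eq_one] at this
      exact ⟨this.symm, mul_left_cancel (this ▸ h)⟩
    have hsep : ∀ w ∈ S.map (MulAut.conj g).toMonoidHom, w ≠ 1 → ¬ IsConj s (s * w) := by
      intro w hw hw1 hc
      obtain ⟨c, hc⟩ := isConj_iff.1 hc
      rcases hconj c with h | ⟨-, h⟩
      · have := h.le ⟨s, hs, rfl⟩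
        simp only [MulEquiv.coe_toMonoidHom, MulAut.conj_apply, hc] at this
        exact hw1 (hdec _ this 1 K.one_mem s hs w (hS'K hw) (mul_one _)).2.symm
      · have := h ⟨s, hs, rfl⟩
        simp only [MulEquiv.coe_toMonoidHom, MulAut.conj_apply, hc] at this
        exact hs1 (by simpa using K.mul_mem this (K.inv_mem (hS'K hw)))
    rcases h2 s (s * t) (s * u) (fun ω => by simpa using hfix 1 K.one_mem ω) (hfix t (hS'K ht))
      (hfix u (hS'K hu)) with h | h | h
    · exact hsep t ht (fun he => px.ne_one (by rw [← hot, he, orderOf_one])) h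
    · exact hsep u hu (fun he => py.ne_one (by rw [← hou, he, orderOf_one])) h
    · obtain ⟨c, hc⟩ := isConj_iff.1 h
      have hmul : c * s * c⁻¹ * (c * t * c⁻¹) = s * u := by rw [← hc]; group
      have hcs : c * s * c⁻¹ ∈ S.map (MulAut.conj c).toMonoidHom := ⟨s, hs, rfl⟩
      have hct : c * t * c⁻¹ ∈ S.map (MulAut.conj (c * g)).toMonoidHom := ⟨x, hx, by
        simp only [MulEquiv.coe_toMonoidHom, MulAut.conj_apply, t]; group⟩
      have hot' : orderOf (c * t * c⁻¹) = orderOf x := by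
        rw [← hot]; exact (orderOf_eq_of_isConj (isConj_iff.2 ⟨c, rfl⟩)).symm
      have hos' : orderOf (c * s * c⁻¹) = orderOf s :=
        (orderOf_eq_of_isConj (isConj_iff.2 ⟨c, rfl⟩)).symm
      rcases hconj c with h1 | ⟨-, h1⟩ <;> rcases hconj (c * g) with h3 | ⟨-, h3⟩
      · refine hg ?_
        refine Subgroup.map_injective (f := (MulAut.conj c).toMonoidHom) (MulAut.conj c).injective ?_
        rw [h1, Subgroup.map_map]
        exact Eq.trans (congrArg (S.map ·) (MonoidHom.ext fun z => by simp [mul_assoc])) h3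
      · have hd := hdec _ (h1.le hcs) _ (h3 hct) s hs u (hS'K hu) hmul
        exact hxy (by rw [← hot', hd.2, hou])
      · have hcomm : c * s * c⁻¹ * (c * t * c⁻¹) = c * t * c⁻¹ * (c * s * c⁻¹) :=
          (Subgroup.mem_centralizer_iff.1 (h1 hcs).2 _ (h3.le hct)).symm
        have hd := hdec _ (h3.le hct) _ (h1 hcs) s hs u (hS'K hu) (hcomm.symm.trans hmul)
        exact hxy (by rw [← hot', hd.1, ← hos', hd.2, hou])
      · exact hs1 (by
          have := K.mul_mem (K.mul_mem (h1 hcs) (h3 hct)) (K.inv_mem (hS'K hu))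
          rw [hmul] at this
          simpa using this)
  · push Not at hA
    refine not_semiregular h2 hSN hSn hSmin hSnc ?_
    intro s hs b hsb
    let K' : Subgroup N := K.subgroupOf N
    have hK' : K'.Normal := ⟨fun k hk n => hKn n n.2 k hk⟩
    have htop : K' ⊔ stabilizer N b = ⊤ := by
      by_contra hL
      obtain ⟨n, hn⟩ := DerangePPower.exists_avoid hL
      obtain ⟨s', hs', k', hk', hnsk⟩ := hNP n n.2
      obtain ⟨k, hk, ω, hω⟩ := hA s' hs'
      obtain ⟨y, rfl⟩ := exists_smul_eq N b ω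
      apply hn y
      let u : N := ⟨(y : G)⁻¹ * (s' * k) * y,
        N.mul_mem (N.mul_mem (N.inv_mem y.2) (N.mul_mem (hSN hs') hk.1)) y.2⟩
      let v : N := ⟨(y : G)⁻¹ * (k⁻¹ * k') * y,
        N.mul_mem (N.mul_mem (N.inv_mem y.2) (N.mul_mem (N.inv_mem hk.1) hk'.1)) y.2⟩
      have huv : y⁻¹ * n * y = u * v := Subtype.ext (by
        show (y : G)⁻¹ * n * y = _
        rw [hnsk]
        show _ = (y : G)⁻¹ * (s' * k) * y * ((y : G)⁻¹ * (k⁻¹ * k') * y)
        group)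
      rw [huv]
      refine Subgroup.mul_mem _ (Subgroup.mem_sup_right ?_) (Subgroup.mem_sup_left ?_)
      · show ((y : G)⁻¹ * (s' * k) * y) • b = b
        rw [mul_smul, mul_smul, inv_smul_eq_iff]; exact hω
      · show (y : G)⁻¹ * (k⁻¹ * k') * y ∈ K
        simpa using hKn (y : G)⁻¹ (N.inv_mem y.2) _ (K.mul_mem (K.inv_mem hk) hk')
    have hD : S ⊓ stabilizer G b = ⊥ := by
      by_contra hD
      have hall : S ≤ stabilizer G b := inf_eq_left.1 <| hSmin _ inf_le_left hD fun n hn k hk => by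
        refine ⟨hSn n hn k hk.1, ?_⟩
        have hmem : (⟨n, hn⟩ : N)⁻¹ ∈ K' ⊔ stabilizer N b := htop ▸ Subgroup.mem_top _
        obtain ⟨c, hc, h, hh, hch⟩ := Subgroup.mem_sup_of_normal_left.1 hmem
        have hchG : (c : G) * h = n⁻¹ := congrArg Subtype.val hch
        have hhb : (h : G) • b = b := hh
        have hcc : Commute k (c : G) := Subgroup.mem_centralizer_iff.1
          (Subgroup.mem_subgroupOf.1 hc).2 k hk.1
        have hcck : (c : G)⁻¹ * k * c = k := by rw [mul_assoc, hcc.eq, inv_mul_cancel_left]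
        have hn' : n = (h : G)⁻¹ * (c : G)⁻¹ := by rw [← mul_inv_rev, hchG, inv_inv]
        show (n * k * n⁻¹) • b = b
        rw [hn',
          show (h : G)⁻¹ * (c : G)⁻¹ * k * ((h : G)⁻¹ * (c : G)⁻¹)⁻¹
            = (h : G)⁻¹ * ((c : G)⁻¹ * k * c) * h by group, hcck, mul_smul, hhb, mul_smul,
          MulAction.mem_stabilizer_iff.1 hk.2, inv_smul_eq_iff, hhb]
      refine hS1 (le_bot_iff.1 fun z hz => ?_)
      refine eq_of_smul_eq_smul (α := Ω) fun ω => ?_
      obtain ⟨y, rfl⟩ := exists_smul_eq N b ω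
      rw [one_smul]
      have hz' : ((y : G)⁻¹ * z * y) • b = b :=
        MulAction.mem_stabilizer_iff.1 (hall (by simpa using hSn _ (N.inv_mem y.2) z hz))
      rwa [mul_smul, mul_smul, inv_smul_eq_iff] at hz'
    have : s ∈ S ⊓ stabilizer G b := ⟨hs, hsb⟩
    rwa [hD, Subgroup.mem_bot] at this

/-- The reduction to the affine case. -/
theorem affine_of_not_almostSimple [Finite G] [FaithfulSMul G Ω] [Nontrivial Ω] [IsPreprimitive G Ω]
    (h2 : TwoClasses G Ω)
    (hnas : ¬ ∃ T : Subgroup G, T.Normal ∧ IsSimpleGroup T ∧ ¬ IsMulCommutative T ∧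
      Subgroup.centralizer (T : Set G) = ⊥) :
    ∃ N : Subgroup G, N.Normal ∧ N ≠ ⊥ ∧ (∀ x ∈ N, ∀ y ∈ N, x * y = y * x) ∧
      IsPretransitive N Ω ∧ ∀ n ∈ N, ∀ ω : Ω, n • ω = ω → n = 1 := by
  obtain ⟨a, a', haa⟩ := exists_pair_ne Ω
  have hGn : (⊤ : Subgroup G) ≠ ⊥ := by
    intro h
    obtain ⟨g, hg⟩ := exists_smul_eq G a a'
    rw [(Subgroup.mem_bot.1 (h ▸ Subgroup.mem_top g) : g = 1), one_smul] at hg
    exact haa hg
  obtain ⟨N, -, hNmin'⟩ := Finite.exists_le_minimal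
    (p := fun K : Subgroup G => K.Normal ∧ K ≠ ⊥) (a := ⊤) ⟨inferInstance, hGn⟩
  obtain ⟨⟨hN, hN1⟩, hNle⟩ := hNmin'
  have hmin : ∀ K : Subgroup G, K.Normal → K ≤ N → K ≠ ⊥ → K = N :=
    fun K hK hKN hK1 => le_antisymm hKN (hNle ⟨hK, hK1⟩ hKN)
  have htrans : ∀ M : Subgroup G, M.Normal → M ≠ ⊥ → IsPretransitive M Ω := by
    intro M hM hM1
    refine IsQuasiPreprimitive.isPretransitive_of_normal fun h => hM1 (le_bot_iff.1 fun m hm => ?_)
    refine eq_of_smul_eq_smul (α := Ω) fun ω => ?_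
    have := (Set.eq_univ_iff_forall.1 h ω) ⟨m, hm⟩
    rw [one_smul]; exact this
  have := htrans N hN hN1
  have hcent : ∀ M : Subgroup G, IsPretransitive M Ω → ∀ n : G, (∀ m ∈ M, m * n = n * m) →
      ∀ ω : Ω, n • ω = ω → n = 1 := by
    intro M _ n hn ω hω
    refine eq_of_smul_eq_smul (α := Ω) fun ω' => ?_
    obtain ⟨m, rfl⟩ := exists_smul_eq M ω ω'
    rw [one_smul]
    show n • (m : G) • ω = (m : G) • ω
    rw [smul_smul, ← hn m m.2, mul_smul, hω]
  by_cases hc : ∀ x ∈ N, ∀ y ∈ N, x * y = y * x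
  · exact ⟨N, hN, hN1, hc, inferInstance, fun n hn ω hω =>
      hcent N inferInstance n (fun m hm => hc m hm n hn) ω hω⟩
  · exfalso
    obtain ⟨S, -, hS'⟩ := Finite.exists_le_minimal
      (p := fun K : Subgroup G => K ≠ ⊥ ∧ K ≤ N ∧ ∀ n ∈ N, ∀ k ∈ K, n * k * n⁻¹ ∈ K) (a := N)
      ⟨hN1, le_rfl, fun n hn k hk => N.mul_mem (N.mul_mem hn hk) (N.inv_mem hn)⟩
    obtain ⟨⟨hS1, hSN, hSn⟩, hSle⟩ := hS'
    have hSmin : ∀ K : Subgroup G, K ≤ S → K ≠ ⊥ → (∀ n ∈ N, ∀ k ∈ K, n * k * n⁻¹ ∈ K) → K = S :=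
      fun K hK h1 h2' => le_antisymm hK (hSle ⟨h1, hK.trans hSN, h2'⟩ hK)
    have hSeq : S = N := no_proper_factor h2 N hmin hc S hS1 hSN hSn hSmin
    subst hSeq
    refine hnas ⟨S, hN, ?_, fun hcomm => hc fun x hx y hy =>
      congrArg Subtype.val (hcomm.is_comm.comm (⟨x, hx⟩ : S) ⟨y, hy⟩), ?_⟩
    · have : Nontrivial S := (Subgroup.nontrivial_iff_ne_bot S).2 hS1
      refine ⟨fun K hK => ?_⟩
      by_cases h : K.map S.subtype = ⊥
      · left; exact (Subgroup.map_eq_bot_iff_of_injective K S.subtype_injective).1 h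
      · right
        have hKS : K.map S.subtype = S := hSmin _ (Subgroup.map_subtype_le K) h fun n hn k hk => by
          obtain ⟨k', hk', rfl⟩ := hk
          exact ⟨_, hK.conj_mem k' hk' ⟨n, hn⟩, rfl⟩
        exact Subgroup.map_injective S.subtype_injective
          (hKS.trans (by rw [← MonoidHom.range_eq_map, Subgroup.range_subtype]))
    · by_contra hC
      have hCt := htrans _ inferInstance hC
      exact not_semiregular h2 le_rfl hSn hSmin hc fun s hs ω hω =>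
        hcent _ hCt s (fun m hm => (Subgroup.mem_centralizer_iff.1 hm s hs).symm) ω hω

end Cfsg.Agent.TwoDerangeClass
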