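import Cfsg.Agent.Lib.TwoDerangeClass.Basic

/-!
# The affine case with two classes of derangements
-/

set_option autoImplicit false

namespace Cfsg.Agent.TwoDerangeClass

open MulAction

theorem affine_cases {G : Type*} [Group G] [Finite G] {Ω : Type*} [Fintype Ω] [MulAction G Ω]
    [FaithfulSMul G Ω] (N : Subgroup G) [hN : N.Normal]
    (hc : ∀ x ∈ N, ∀ y ∈ N, x * y = y * x) [IsPretransitive N Ω]
    (hsr : ∀ n ∈ N, ∀ ω : Ω, n • ω = ω → n = 1)
    (hκ : Nat.card {c : ConjClasses G // ∃ g : G, ConjClasses.mk g = c ∧ ∀ ω : Ω, g • ω ≠ ω} = 2)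
    (a : Ω) :
    ((∀ g : G, g ≠ 1 → Nat.card (fixedBy Ω g) ≤ 1) ∧ ¬ 2 ∣ Fintype.card Ω ∧
      2 * Nat.card (stabilizer G a) = Fintype.card Ω - 1) ∨
    (IsMultiplyPretransitive G Ω 2 ∧ ∃ g : G, g ≠ 1 ∧ 2 ≤ Nat.card (fixedBy Ω g)) := by
  classical
  have : IsPretransitive G Ω := ⟨fun x y => by
    obtain ⟨m, hm⟩ := exists_smul_eq N x y; exact ⟨m, hm⟩⟩
  -- derangements of the form `v * h` and the map `u ↦ u * (h u h⁻¹)⁻¹`
  have hfix : ∀ b : Ω, ∀ h : G, h • b = b → (∀ c : Ω, h • c = c → c = b) →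
      ∀ v ∈ N, ∃ ω : Ω, (v * h) • ω = ω := by
    intro b h hh huniq v hv
    let φ : N → N := fun u => ⟨u * (h * u * h⁻¹)⁻¹,
      N.mul_mem u.2 (N.inv_mem (hN.conj_mem u u.2 h))⟩
    have hh' : h⁻¹ • b = b := inv_smul_eq_iff.2 hh.symm
    have hinj : Function.Injective φ := by
      intro u w huw
      have e : (u : G) * (h * u * h⁻¹)⁻¹ = w * (h * w * h⁻¹)⁻¹ := congrArg Subtype.val huw
      -- `w⁻¹ u` is centralised by `h`
      have hw' := hN.conj_mem w w.2 h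
      have hu' := hN.conj_mem u u.2 h
      have e2 : (w : G)⁻¹ * u = (h * w * h⁻¹)⁻¹ * (h * u * h⁻¹) := by
        have h3 : (u : G) = w * (h * w * h⁻¹)⁻¹ * (h * u * h⁻¹) := by rw [← e]; group
        calc (w : G)⁻¹ * u = (w : G)⁻¹ * (w * (h * w * h⁻¹)⁻¹ * (h * u * h⁻¹)) := by rw [← h3]
          _ = _ := by group
      have e3 : h * ((w : G)⁻¹ * u) * h⁻¹ = (w : G)⁻¹ * u := by
        calc h * ((w : G)⁻¹ * u) * h⁻¹ = (h * w * h⁻¹)⁻¹ * (h * u * h⁻¹) := by group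
          _ = (w : G)⁻¹ * u := e2.symm
      have hfixed : h • ((w : G)⁻¹ * u) • b = ((w : G)⁻¹ * u) • b := by
        calc h • ((w : G)⁻¹ * u) • b = (h * ((w : G)⁻¹ * u) * h⁻¹) • (h • b) := by
              rw [← mul_smul, ← mul_smul]; congr 1; group
          _ = _ := by rw [e3, hh]
      have := hsr _ (N.mul_mem (N.inv_mem w.2) u.2) b (huniq _ hfixed)
      exact Subtype.ext (inv_mul_eq_one.1 this).symm
    obtain ⟨u, hu⟩ := (Finite.injective_iff_surjective.1 hinj) ⟨v, hv⟩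
    have hu' : (u : G) * (h * u * h⁻¹)⁻¹ = v := congrArg Subtype.val hu
    refine ⟨(u : G) • b, ?_⟩
    rw [← hu', ← mul_smul,
      show (u : G) * (h * u * h⁻¹)⁻¹ * h * u = (u : G) * h by group, mul_smul, hh]
  have h2c := twoClasses_of_card hκ
  have hder : ∀ v ∈ N, v ≠ 1 → ∀ ω : Ω, v • ω ≠ ω := fun v hv hv1 ω hω => hv1 (hsr v hv ω hω)
  have hdecomp : ∀ g : G, ∃ v ∈ N, ∃ h : G, h • a = a ∧ g = v * h := by
    intro g
    obtain ⟨m, hm⟩ := exists_smul_eq N a (g • a)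
    exact ⟨m, m.2, (m : G)⁻¹ * g, by rw [mul_smul, inv_smul_eq_iff]; exact hm.symm, by group⟩
  -- conjugation of elements of `N` by `G` is by the stabiliser
  have hconjN : ∀ v ∈ N, ∀ w : G, IsConj v w → ∃ h : G, h • a = a ∧ h * v * h⁻¹ = w := by
    intro v hv w hvw
    obtain ⟨c, rfl⟩ := isConj_iff.1 hvw
    obtain ⟨m, hm, h, hh, rfl⟩ := hdecomp c
    refine ⟨h, hh, ?_⟩
    have := hc m hm _ (hN.conj_mem v hv h)
    calc h * v * h⁻¹ = h * v * h⁻¹ * m * m⁻¹ := by group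
      _ = m * (h * v * h⁻¹) * m⁻¹ := by rw [this]
      _ = m * h * v * (m * h)⁻¹ := by group
  have hfixle : ∀ g : G, g ≠ 1 → ¬ Nat.card (fixedBy Ω g) ≤ 1 → ∃ h : G, h ≠ 1 ∧ h • a = a ∧
      2 ≤ Nat.card (fixedBy Ω h) := by
    intro g hg hgc
    obtain ⟨⟨b, hb⟩⟩ : Nonempty (fixedBy Ω g) := by
      by_contra he
      rw [not_nonempty_iff] at he
      exact hgc (by simp [Nat.card_of_isEmpty])
    obtain ⟨m, hm⟩ := exists_smul_eq G b a
    refine ⟨m * g * m⁻¹, fun h => hg (by simpa using h), ?_, ?_⟩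
    · rw [mul_smul, mul_smul, inv_smul_eq_iff.2 hm.symm, mem_fixedBy.1 hb, hm]
    · refine le_of_le_of_eq (by omega : 2 ≤ Nat.card (fixedBy Ω g)) ?_
      exact Nat.card_congr ((MulAction.toPerm m).subtypeEquiv fun x => by
        simp [mem_fixedBy, mul_smul, smul_left_cancel_iff])
  by_cases hD : ∃ g : G, g ∉ N ∧ ∀ ω : Ω, g • ω ≠ ω
  · right
    obtain ⟨g, hgN, hg⟩ := hD
    have hone : ∀ v ∈ N, ∀ w ∈ N, v ≠ 1 → w ≠ 1 → IsConj v w := by
      intro v hv w hw hv1 hw1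
      rcases h2c v w g (hder v hv hv1) (hder w hw hw1) hg with h | h | h
      · exact h
      · obtain ⟨c, rfl⟩ := isConj_iff.1 h
        exact absurd (hN.conj_mem v hv c) hgN
      · obtain ⟨c, rfl⟩ := isConj_iff.1 h
        exact absurd (hN.conj_mem w hw c) hgN
    have htr : ∀ x y : Ω, x ≠ a → y ≠ a → ∃ h : G, h • a = a ∧ h • x = y := by
      intro x y hx hy
      obtain ⟨v, rfl⟩ := exists_smul_eq N a x
      obtain ⟨w, rfl⟩ := exists_smul_eq N a y
      obtain ⟨h, hh, hvw⟩ := hconjN v v.2 w (hone v v.2 w w.2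
        (fun e => hx (show (v : G) • a = a by rw [e, one_smul]))
        (fun e => hy (show (w : G) • a = a by rw [e, one_smul])))
      refine ⟨h, hh, ?_⟩
      show h • (v : G) • a = (w : G) • a
      rw [← hvw, mul_smul, mul_smul, inv_smul_eq_iff.2 hh.symm]
    refine ⟨is_two_pretransitive_iff.2 fun {x y z w} hxy hzw => ?_, ?_⟩
    · obtain ⟨m, hm⟩ := exists_smul_eq G x a
      obtain ⟨k, hk⟩ := exists_smul_eq G z a
      obtain ⟨h, hh, hh'⟩ := htr (m • y) (k • w)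
        (fun e => hxy (smul_left_cancel m (hm.trans e.symm)))
        (fun e => hzw (smul_left_cancel k (hk.trans e.symm)))
      refine ⟨k⁻¹ * h * m, ?_, ?_⟩
      · rw [mul_smul, mul_smul, hm, hh, inv_smul_eq_iff, hk]
      · rw [mul_smul, mul_smul, hh', inv_smul_smul]
    · obtain ⟨v, hv, h, hh, rfl⟩ := hdecomp g
      have hh1 : h ≠ 1 := fun e => hgN (by rw [e, mul_one]; exact hv)
      refine ⟨h, hh1, ?_⟩
      by_contra hlt
      have hsub : Nat.card (fixedBy Ω h) ≤ 1 := by omega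
      rw [Finite.card_le_one_iff_subsingleton] at hsub
      obtain ⟨ω, hω⟩ := hfix a h hh (fun c hc' =>
        congrArg Subtype.val (Subsingleton.elim (⟨c, hc'⟩ : fixedBy Ω h) ⟨a, hh⟩)) v hv
      exact hg ω hω
  · left
    simp only [not_exists, not_and] at hD
    -- point stabilisers act semiregularly on the other points
    have hfree : ∀ h : G, h • a = a → h ≠ 1 → ∀ c : Ω, h • c = c → c = a := by
      intro h hh hh1 c hcc
      obtain ⟨u, rfl⟩ := exists_smul_eq N a c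
      by_contra hne
      have hu1 : (u : G) ≠ 1 := fun e => hne (show (u : G) • a = a by rw [e, one_smul])
      let φ : N → N := fun w => ⟨w * (h * w * h⁻¹)⁻¹,
        N.mul_mem w.2 (N.inv_mem (hN.conj_mem w w.2 h))⟩
      have hsurj : Function.Surjective φ := by
        rintro ⟨v, hv⟩
        have hvh : v * h ∉ N := fun e => hh1 (hsr h (by simpa using N.mul_mem (N.inv_mem hv) e) a hh)
        obtain ⟨ω, hω⟩ : ∃ ω : Ω, (v * h) • ω = ω := by
          by_contra hne'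
          simp only [not_exists] at hne'
          exact hD _ hvh |>.elim fun ω => hne' ω
        obtain ⟨w, rfl⟩ := exists_smul_eq N a ω
        refine ⟨w, Subtype.ext ?_⟩
        show (w : G) * (h * w * h⁻¹)⁻¹ = v
        have e : ((w : G)⁻¹ * v * (h * w * h⁻¹)) • a = a := by
          have : (h * (w : G) * h⁻¹) • a = h • (w : G) • a := by
            rw [mul_smul, mul_smul, inv_smul_eq_iff.2 hh.symm]
          rw [mul_smul, mul_smul, this, inv_smul_eq_iff, ← mul_smul v h]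
          exact hω
        have := hsr _ (N.mul_mem (N.mul_mem (N.inv_mem w.2) hv) (hN.conj_mem w w.2 h)) a e
        calc (w : G) * (h * w * h⁻¹)⁻¹ =
              (w : G) * ((w : G)⁻¹ * v * (h * w * h⁻¹)) * (h * w * h⁻¹)⁻¹ := by rw [this, mul_one]
          _ = v := by group
      have hinj : Function.Injective φ := Finite.injective_iff_surjective.2 hsurj
      have e : φ u = φ 1 := Subtype.ext (by
        show (u : G) * (h * u * h⁻¹)⁻¹ = ((1 : N) : G) * (h * ((1 : N) : G) * h⁻¹)⁻¹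
        have hu : (u : G)⁻¹ * (h * u * h⁻¹) = 1 := by
          refine hsr _ (N.mul_mem (N.inv_mem u.2) (hN.conj_mem u u.2 h)) a ?_
          rw [mul_smul, mul_smul, mul_smul, inv_smul_eq_iff.2 hh.symm, inv_smul_eq_iff]
          exact hcc
        rw [inv_mul_eq_one] at hu
        rw [OneMemClass.coe_one, ← hu]; group)
      exact hu1 (congrArg Subtype.val (hinj e))
    have hfix1 : ∀ g : G, g ≠ 1 → Nat.card (fixedBy Ω g) ≤ 1 := by
      intro g hg
      by_contra hgc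
      obtain ⟨h, hh1, hh, h2⟩ := hfixle g hg hgc
      have : Subsingleton (fixedBy Ω h) := ⟨fun x y => Subtype.ext
        ((hfree h hh hh1 x x.2).trans (hfree h hh hh1 y y.2).symm)⟩
      have := Finite.card_le_one_iff_subsingleton.2 this
      omega
    -- two orbits of the stabiliser
    obtain ⟨c₁, c₂, hne, huniv⟩ := Nat.card_eq_two_iff.1 hκ
    obtain ⟨v₁, hv₁, hd₁⟩ := c₁.2
    obtain ⟨v₂, hv₂, hd₂⟩ := c₂.2
    have hvN : ∀ v : G, (∀ ω : Ω, v • ω ≠ ω) → v ∈ N ∧ v ≠ 1 := fun v hv =>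
      ⟨by
        by_contra hvn
        obtain ⟨ω, hω⟩ : ∃ ω : Ω, v • ω = ω := by
          by_contra hne'
          simp only [not_exists] at hne'
          exact hD v hvn |>.elim fun ω => hne' ω
        exact hv ω hω, fun e => hv a (by rw [e, one_smul])⟩
    obtain ⟨hv₁N, hv₁1⟩ := hvN v₁ hd₁
    obtain ⟨hv₂N, hv₂1⟩ := hvN v₂ hd₂
    have hn12 : ¬ IsConj v₁ v₂ := fun e => hne (Subtype.ext
      (hv₁.symm.trans ((ConjClasses.mk_eq_mk_iff_isConj.2 e).trans hv₂)))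
    have hmem : ∀ h : stabilizer G a, ∀ v ∈ N, v ≠ 1 → ((h : G) * v * (h : G)⁻¹) • a ≠ a :=
      fun h v hv hv1 => hder _ (hN.conj_mem v hv h) (by simpa using hv1) a
    let F : stabilizer G a ⊕ stabilizer G a → {x : Ω // x ≠ a} := Sum.elim
      (fun h => ⟨_, hmem h v₁ hv₁N hv₁1⟩) (fun h => ⟨_, hmem h v₂ hv₂N hv₂1⟩)
    have hFinj : Function.Injective F := by
      have hbase : ∀ h k : stabilizer G a, ∀ v ∈ N, ∀ w ∈ N,
          ((h : G) * v * (h : G)⁻¹) • a = ((k : G) * w * (k : G)⁻¹) • a →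
          (h : G) * v * (h : G)⁻¹ = (k : G) * w * (k : G)⁻¹ := by
        intro h k v hv w hw e
        refine (inv_mul_eq_one.1 (hsr _ (N.mul_mem (N.inv_mem (hN.conj_mem w hw k))
          (hN.conj_mem v hv h)) a ?_)).symm
        rw [mul_smul, e, inv_smul_smul]
      have hsame : ∀ h k : stabilizer G a, ∀ v ∈ N, v ≠ 1 →
          ((h : G) * v * (h : G)⁻¹) • a = ((k : G) * v * (k : G)⁻¹) • a → h = k := by
        intro h k v hv hv1 e
        have e' := hbase h k v hv v hv e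
        by_contra hhk
        have hk1 : (k : G)⁻¹ * h ≠ 1 := fun q => hhk (Subtype.ext (inv_mul_eq_one.1 q).symm)
        have hka : ((k : G)⁻¹ * h) • a = a := ((stabilizer G a).mul_mem ((stabilizer G a).inv_mem k.2) h.2)
        refine hder v hv hv1 a (hfree _ hka hk1 _ ?_)
        have e2 : (k : G)⁻¹ * h * v * ((k : G)⁻¹ * h)⁻¹ = v := by
          calc (k : G)⁻¹ * h * v * ((k : G)⁻¹ * h)⁻¹ = (k : G)⁻¹ * ((h : G) * v * (h : G)⁻¹) * k := by group
            _ = v := by rw [e']; group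
        conv_rhs => rw [← e2]
        rw [mul_smul _ (((k : G)⁻¹ * h)⁻¹), inv_smul_eq_iff.2 hka.symm, mul_smul _ v]
      rintro (h | h) (k | k) e <;> have e' := congrArg Subtype.val e
      · exact congrArg Sum.inl (hsame h k v₁ hv₁N hv₁1 e')
      · exact absurd (isConj_iff.2 ⟨(k : G)⁻¹ * h, by
          have := hbase h k v₁ hv₁N v₂ hv₂N e'
          calc (k : G)⁻¹ * h * v₁ * ((k : G)⁻¹ * h)⁻¹ = (k : G)⁻¹ * ((h : G) * v₁ * (h : G)⁻¹) * k := by group
            _ = v₂ := by rw [this]; group⟩) hn12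
      · exact absurd (isConj_iff.2 ⟨(h : G)⁻¹ * k, by
          have := hbase k h v₁ hv₁N v₂ hv₂N e'.symm
          calc (h : G)⁻¹ * k * v₁ * ((h : G)⁻¹ * k)⁻¹ = (h : G)⁻¹ * ((k : G) * v₁ * (k : G)⁻¹) * h := by group
            _ = v₂ := by rw [this]; group⟩) hn12
      · exact congrArg Sum.inr (hsame h k v₂ hv₂N hv₂1 e')
    have hFsurj : Function.Surjective F := by
      rintro ⟨x, hx⟩
      obtain ⟨u, rfl⟩ := exists_smul_eq N a x
      have hu1 : (u : G) ≠ 1 := fun e => hx (show (u : G) • a = a by rw [e, one_smul])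
      have hmemc : (⟨ConjClasses.mk (u : G), u, rfl, hder u u.2 hu1⟩ :
          {c : ConjClasses G // ∃ g : G, ConjClasses.mk g = c ∧ ∀ ω : Ω, g • ω ≠ ω}) ∈
          ({c₁, c₂} : Set _) := huniv ▸ Set.mem_univ _
      rcases hmemc with e | e
      · obtain ⟨h, hh, he⟩ := hconjN v₁ hv₁N u (ConjClasses.mk_eq_mk_iff_isConj.1
          (hv₁.trans (congrArg Subtype.val e).symm))
        exact ⟨Sum.inl ⟨h, hh⟩, Subtype.ext (show (h * v₁ * h⁻¹) • a = (u : G) • a by rw [he])⟩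
      · obtain ⟨h, hh, he⟩ := hconjN v₂ hv₂N u (ConjClasses.mk_eq_mk_iff_isConj.1
          (hv₂.trans (congrArg Subtype.val e).symm))
        exact ⟨Sum.inr ⟨h, hh⟩, Subtype.ext (show (h * v₂ * h⁻¹) • a = (u : G) • a by rw [he])⟩
    have hcard : 2 * Nat.card (stabilizer G a) = Fintype.card Ω - 1 := by
      have := Nat.card_eq_of_bijective F ⟨hFinj, hFsurj⟩
      rw [Nat.card_sum, Nat.card_eq_fintype_card (α := {x : Ω // x ≠ a}),
        Fintype.card_subtype_compl, Fintype.card_subtype_eq] at this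
      omega
    refine ⟨hfix1, fun hdiv => ?_, hcard⟩
    have : 0 < Fintype.card Ω := Fintype.card_pos_iff.2 ⟨a⟩
    omega

/-- The classification of the non-almost-simple case. -/
theorem classify {G : Type*} [Group G] [Finite G] {Ω : Type*} [Fintype Ω] [MulAction G Ω]
    [FaithfulSMul G Ω] [Nontrivial Ω] [IsPreprimitive G Ω]
    (hnas : ¬ ∃ T : Subgroup G, T.Normal ∧ IsSimpleGroup T ∧ ¬ IsMulCommutative T ∧
      Subgroup.centralizer (T : Set G) = ⊥)
    (hκ : Nat.card {c : ConjClasses G // ∃ g : G, ConjClasses.mk g = c ∧ ∀ ω : Ω, g • ω ≠ ω} = 2)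
    (a : Ω) :
    ((∃ N : Subgroup G, N.Normal ∧ N ≠ ⊥ ∧ IsMulCommutative N ∧ ∀ ω : Ω, stabilizer N ω = ⊥) ∧
      (∀ g : G, g ≠ 1 → Nat.card (fixedBy Ω g) ≤ 1) ∧ ¬ 2 ∣ Fintype.card Ω ∧
      2 * Nat.card (stabilizer G a) = Fintype.card Ω - 1) ∨
    ((∃ N : Subgroup G, N.Normal ∧ N ≠ ⊥ ∧ IsMulCommutative N ∧ ∀ ω : Ω, stabilizer N ω = ⊥) ∧
      IsMultiplyPretransitive G Ω 2 ∧ ∃ g : G, g ≠ 1 ∧ 2 ≤ Nat.card (fixedBy Ω g)) := by
  obtain ⟨N, hN, hN1, hc, ht, hsr⟩ := affine_of_not_almostSimple (twoClasses_of_card hκ) hnas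
  have hex : ∃ M : Subgroup G, M.Normal ∧ M ≠ ⊥ ∧ IsMulCommutative M ∧ ∀ ω : Ω, stabilizer M ω = ⊥ :=
    ⟨N, hN, hN1, ⟨⟨fun x y => Subtype.ext (hc x x.2 y y.2)⟩⟩, fun ω => eq_bot_iff.2 fun n hn =>
      Subgroup.mem_bot.2 (Subtype.ext (hsr n n.2 ω hn))⟩
  exact (affine_cases N hc hsr hκ a).imp (fun h => ⟨hex, h⟩) fun h => ⟨hex, h⟩

end Cfsg.Agent.TwoDerangeClass
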